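import Mathlib
import Groth.Agent.S6277
import Groth.Agent.S19461

/-!
# A local endomorphism bijective on the cotangent space is flat and unramified
-/

set_option autoImplicit false
set_option linter.style.haveILetI false
universe u

open IsLocalRing

namespace Groth.Agent.EndoEtaleLib

variable {O : Type u} [CommRing O] [IsLocalRing O] [IsNoetherianRing O] (θ : O →+* O)

/-- A local endomorphism which is surjective on the residue field and on the cotangent space is
bijective on every truncation, hence flat and unramified. -/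
theorem flat_and_map_maximalIdeal [IsLocalHom θ] (hres : ∀ x : O, ∃ y : O, x - θ y ∈ maximalIdeal O)
    (hcot : maximalIdeal O ≤ (maximalIdeal O).map θ ⊔ maximalIdeal O ^ 2) :
    θ.Flat ∧ (maximalIdeal O).map θ = maximalIdeal O := by
  classical
  set m := maximalIdeal O with hm
  have hle : m.map θ ≤ m := Ideal.map_le_iff_le_comap.mpr fun x hx => map_nonunit θ x hx
  have hmap : m.map θ = m := by
    refine le_antisymm hle (Submodule.le_of_le_smul_of_le_jacobson_bot (IsNoetherian.noetherian m)
      (maximalIdeal_le_jacobson _) ?_)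
    rw [smul_eq_mul, ← pow_two]
    exact hcot
  have happ : ∀ (j : ℕ) (x : O), ∃ y : O, x - θ y ∈ m ^ j := by
    intro j
    induction j with
    | zero => exact fun x => ⟨0, by simp⟩
    | succ j ih =>
      intro x
      obtain ⟨y, hy⟩ := ih x
      suffices h : ∀ z ∈ (m ^ j).map θ, ∃ w : O, z - θ w ∈ m ^ (j + 1) by
        obtain ⟨w, hw⟩ := h (x - θ y) (by rw [Ideal.map_pow, hmap]; exact hy)
        exact ⟨y + w, by rwa [map_add, ← sub_sub]⟩
      intro z hz
      refine Submodule.span_induction (fun a ha => ?_) ⟨0, by simp⟩ ?_ ?_ hz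
      · obtain ⟨b, -, rfl⟩ := ha
        exact ⟨b, by simp⟩
      · rintro a b - - ⟨v, hv⟩ ⟨w, hw⟩
        exact ⟨v + w, by rw [map_add, add_sub_add_comm]; exact add_mem hv hw⟩
      · rintro c a ha ⟨v, hv⟩
        obtain ⟨d, hd⟩ := hres c
        have haj : a ∈ m ^ j := by
          have h := (Ideal.map_pow θ m j).le ha
          rwa [hmap] at h
        refine ⟨d * v, ?_⟩
        rw [smul_eq_mul, show c * a - θ (d * v) = θ d * (a - θ v) + (c - θ d) * a by rw [map_mul]; ring, pow_succ']
        refine add_mem ?_ (Ideal.mul_mem_mul hd haj)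
        rw [← pow_succ']
        exact Ideal.mul_mem_left _ _ hv
  let θj : ∀ j : ℕ, O ⧸ m ^ j →+* O ⧸ m ^ j := fun j => Ideal.quotientMap (m ^ j) θ
    (Ideal.map_le_iff_le_comap.mp (by rw [Ideal.map_pow, hmap]))
  have hθj : ∀ j, Function.Bijective (θj j) := fun j => by
    refine S6277.result (θj j) fun a => ?_
    obtain ⟨x, rfl⟩ := Ideal.Quotient.mk_surjective a
    obtain ⟨y, hy⟩ := happ j x
    exact ⟨Ideal.Quotient.mk _ y, by
      show Ideal.Quotient.mk _ (θ y) = _
      exact (Ideal.Quotient.eq.mpr hy).symm⟩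
  let C := AdicCompletion m O
  let f : (j : ℕ) → C →+* O ⧸ m ^ j := fun j => (θj j).comp (AdicCompletion.evalₐ m j).toRingHom
  let finv : (j : ℕ) → C →+* O ⧸ m ^ j := fun j =>
    (RingEquiv.ofBijective (θj j) (hθj j)).symm.toRingHom.comp (AdicCompletion.evalₐ m j).toRingHom
  have hev : ∀ {i j : ℕ} (h : i ≤ j) (c : C),
      Ideal.Quotient.factorPow m h (AdicCompletion.evalₐ m j c) = AdicCompletion.evalₐ m i c := by
    intro i j h c
    obtain ⟨s, rfl⟩ := AdicCompletion.mk_surjective m O c
    rw [AdicCompletion.evalₐ_mk, AdicCompletion.evalₐ_mk]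
    show Ideal.Quotient.mk _ (s.val j) = _
    rw [Ideal.Quotient.eq]
    have := s.2 h
    rw [SModEq.sub_mem, smul_eq_mul, Ideal.mul_top] at this
    rw [← neg_sub]
    exact neg_mem this
  have hnat : ∀ {i j : ℕ} (h : i ≤ j) (a : O ⧸ m ^ j),
      Ideal.Quotient.factorPow m h (θj j a) = θj i (Ideal.Quotient.factorPow m h a) := by
    intro i j h a
    obtain ⟨a, rfl⟩ := Ideal.Quotient.mk_surjective a
    rfl
  have hf : ∀ {i j : ℕ} (h : i ≤ j), (Ideal.Quotient.factorPow m h).comp (f j) = f i := fun h =>
    RingHom.ext fun c => by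
      show Ideal.Quotient.factorPow m h (θj _ _) = θj _ _
      rw [hnat]
      exact congrArg _ (hev h c)
  let ψ : C →+* C := AdicCompletion.liftRingHom m f hf
  have hψ : Function.Bijective ψ := by
    have hev' : ∀ j c, AdicCompletion.evalₐ m j (ψ c) = θj j (AdicCompletion.evalₐ m j c) := fun j c =>
      AdicCompletion.evalₐ_liftRingHom _ _ hf _ _
    refine ⟨fun a b hab => AdicCompletion.ext_evalₐ fun j => (hθj j).1 ?_, fun c => ?_⟩
    · rw [← hev', ← hev', hab]
    · have hfi : ∀ {i j : ℕ} (h : i ≤ j), (Ideal.Quotient.factorPow m h).comp (finv j) = finv i := fun {i j} h =>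
        RingHom.ext fun c => by
          refine (hθj i).1 ?_
          show θj i (Ideal.Quotient.factorPow m h ((RingEquiv.ofBijective (θj j) (hθj j)).symm _)) =
            (RingEquiv.ofBijective (θj i) (hθj i)) ((RingEquiv.ofBijective (θj i) (hθj i)).symm _)
          rw [← hnat, RingEquiv.apply_symm_apply]
          refine Eq.trans (congrArg _ ((RingEquiv.ofBijective (θj j) (hθj j)).apply_symm_apply _)) ?_
          exact hev h c
      refine ⟨AdicCompletion.liftRingHom m finv hfi c, AdicCompletion.ext_evalₐ fun j => ?_⟩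
      rw [hev', AdicCompletion.evalₐ_liftRingHom]
      exact (RingEquiv.ofBijective (θj j) (hθj j)).apply_symm_apply _
  have hψθ : ψ.comp (algebraMap O C) = (algebraMap O C).comp θ := RingHom.ext fun x =>
    AdicCompletion.ext_evalₐ fun j => by
      simp only [RingHom.comp_apply, AlgHom.commutes]
      rw [show AdicCompletion.evalₐ m j (ψ (algebraMap O C x)) = θj j (AdicCompletion.evalₐ m j (algebraMap O C x)) from
        AdicCompletion.evalₐ_liftRingHom _ _ hf _ _, AlgHom.commutes]
      rfl
  exact ⟨(@S19461.result O O _ _ _ _ _ _ θ.toAlgebra ‹IsLocalHom θ› ψ hψθ hψ).1, hmap⟩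

end Groth.Agent.EndoEtaleLib
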