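import Mathlib
import Groth.Agent.EndoEtaleLib.Local
import Groth.Agent.S9560

/-!
# Étaleness at a rational point of a map multiplying tangent vectors by a unit
-/

set_option autoImplicit false
set_option linter.style.haveILetI false
universe u

open IsLocalRing
open scoped TrivSqZeroExt DualNumber

namespace Groth.Agent.EndoEtaleLib

variable {k : Type u} [Field k] {A A' : Type u} [CommRing A] [Algebra k A] [Algebra.FiniteType k A]
  [CommRing A'] [Algebra k A'] [Algebra A A'] [IsScalarTower k A A'] (f : A) [IsLocalization.Away f A']

include f in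
theorem localRingHom_flat_of_tangent (e : A →ₐ[k] k) (e' : A' →ₐ[k] k) (hee : e'.comp (IsScalarTower.toAlgHom k A A') = e)
    (φ : A →ₐ[k] A') (he : e'.comp φ = e) {n : k} (hn : n ≠ 0)
    (ht : ∀ g : A' →ₐ[k] k[ε], (TrivSqZeroExt.fstHom k k k).comp g = e' → ∀ a : A,
      TrivSqZeroExt.snd (g (φ a)) = n * TrivSqZeroExt.snd (g (algebraMap A A' a))) :
    haveI : (RingHom.ker e).IsPrime := RingHom.ker_isPrime _
    haveI : (RingHom.ker e').IsPrime := RingHom.ker_isPrime _
    ∀ h : RingHom.ker e = (RingHom.ker e').comap φ.toRingHom,
      (Localization.localRingHom (RingHom.ker e) (RingHom.ker e') φ.toRingHom h).Flat ∧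
      (maximalIdeal (Localization.AtPrime (RingHom.ker e))).map
        (Localization.localRingHom (RingHom.ker e) (RingHom.ker e') φ.toRingHom h) =
        maximalIdeal (Localization.AtPrime (RingHom.ker e')) := by
  classical
  set p := RingHom.ker e with hp_def
  set q := RingHom.ker e' with hq_def
  haveI : p.IsPrime := RingHom.ker_isPrime _
  haveI : q.IsPrime := RingHom.ker_isPrime _
  have hee' : ∀ a, e' (algebraMap A A' a) = e a := fun a => AlgHom.congr_fun hee a
  have he' : ∀ a, e' (φ a) = e a := fun a => AlgHom.congr_fun he a
  haveI : IsNoetherianRing A := Algebra.FiniteType.isNoetherianRing k A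
  let O := Localization.AtPrime p
  let O' := Localization.AtPrime q
  have hqp : q.comap (algebraMap A A') = p := Ideal.ext fun a => by
    rw [Ideal.mem_comap, hq_def, hp_def, RingHom.mem_ker, RingHom.mem_ker, hee']
  haveI : IsLocalization p.primeCompl O' := by
    have h := IsLocalization.isLocalization_isLocalization_atPrime_isLocalization
      (Submonoid.powers f) O' q (S := A')
    convert h using 2
    exact hqp.symm
  let eo : O ≃ₐ[A] O' := IsLocalization.algEquiv p.primeCompl O O'
  have hφq : q.comap φ.toRingHom = p := Ideal.ext fun a => by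
    rw [Ideal.mem_comap, hq_def, hp_def, RingHom.mem_ker, RingHom.mem_ker]
    exact Eq.congr_left (he' a)
  let χ : O →+* O' := Localization.localRingHom p q φ.toRingHom hφq.symm
  let θ : O →+* O := eo.symm.toRingEquiv.toRingHom.comp χ
  haveI : IsLocalHom χ := Localization.isLocalHom_localRingHom _ _ _ _
  haveI : IsLocalHom θ := ⟨fun a ha => by
    have h1 : IsUnit (eo (θ a)) := ha.map eo
    rw [show eo (θ a) = χ a from eo.apply_symm_apply _] at h1
    exact IsUnit.of_map χ a h1⟩
  have heok : ∀ c : k, eo (algebraMap k O c) = algebraMap k O' c := fun c => by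
    rw [IsScalarTower.algebraMap_apply k A O, eo.commutes, ← IsScalarTower.algebraMap_apply]
  have hθk : ∀ c : k, θ (algebraMap k O c) = algebraMap k O c := fun c => by
    apply eo.injective
    rw [show eo (θ (algebraMap k O c)) = χ (algebraMap k O c) from eo.apply_symm_apply _, heok,
      IsScalarTower.algebraMap_apply k A O, Localization.localRingHom_to_map]
    show algebraMap A' O' (φ (algebraMap k A c)) = _
    rw [φ.commutes, ← IsScalarTower.algebraMap_apply]
  have hmem : ∀ a, a ∈ p ↔ algebraMap A O a ∈ maximalIdeal O := fun a =>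
    (IsLocalization.AtPrime.to_map_mem_maximal_iff O p a).symm
  have hres : ∀ x : O, ∃ y : O, x - θ y ∈ maximalIdeal O := by
    intro x
    obtain ⟨a, s, rfl⟩ := IsLocalization.exists_mk'_eq p.primeCompl x
    refine ⟨algebraMap k O (e a / e s), ?_⟩
    rw [hθk, ← Ideal.mul_unit_mem_iff_mem _ (IsLocalization.map_units O s), sub_mul, IsLocalization.mk'_spec,
      IsScalarTower.algebraMap_apply k A O, ← map_mul, ← map_sub, ← hmem]
    show e _ = 0
    rw [map_sub, map_mul, AlgHom.commutes]
    have hs : e s ≠ 0 := fun h => s.2 h
    simp [div_mul_cancel₀ _ hs]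
  have hcot : maximalIdeal O ≤ (maximalIdeal O).map θ ⊔ maximalIdeal O ^ 2 := by
    let J := (maximalIdeal O).map θ ⊔ maximalIdeal O ^ 2
    have hpJ : ∀ a ∈ p, algebraMap A O a ∈ J := by
      intro a ha
      by_contra hna
      let W : Submodule k A := (J.restrictScalars k).comap (IsScalarTower.toAlgHom k A O).toLinearMap
      obtain ⟨lam, hla, hlW⟩ := Submodule.exists_dual_map_eq_bot_of_notMem (p := W) (x := a) hna inferInstance
      have hW : ∀ b, algebraMap A O b ∈ J → lam b = 0 := fun b hb => by
        have : lam b ∈ W.map lam := ⟨b, hb, rfl⟩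
        rwa [hlW, Submodule.mem_bot] at this
      have hpp : ∀ b c, e b = 0 → e c = 0 → lam (b * c) = 0 := fun b c hb hc => hW _ (by
        rw [map_mul]
        exact Submodule.mem_sup_right (by rw [pow_two]; exact Ideal.mul_mem_mul ((hmem b).mp hb) ((hmem c).mp hc)))
      let D : A →ₗ[k] k := lam.comp (LinearMap.id - (Algebra.linearMap k A).comp e.toLinearMap)
      have hD : ∀ x y, D (x * y) = e x * D y + e y * D x := by
        intro x y
        have h0 := hpp (x - algebraMap k A (e x)) (y - algebraMap k A (e y)) (by simp) (by simp)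
        show lam (x * y - algebraMap k A (e (x * y))) = e x * lam (y - algebraMap k A (e y)) + e y * lam (x - algebraMap k A (e x))
        rw [← smul_eq_mul (e x), ← smul_eq_mul (e y), ← map_smul, ← map_smul, ← map_add, ← sub_eq_zero, ← map_sub]
        refine Eq.trans (congrArg lam ?_) h0
        simp only [Algebra.smul_def, map_mul]
        ring
      let g0 : A →ₐ[k] k[ε] :=
        AlgHom.ofLinearMap ((TrivSqZeroExt.inlAlgHom k k k).toLinearMap.comp e.toLinearMap +
          ((TrivSqZeroExt.inrHom k k).restrictScalars k).comp D)
          (by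
            refine TrivSqZeroExt.ext ?_ ?_
            · simp
            · simp [D])
          (fun x y => by
            refine TrivSqZeroExt.ext ?_ ?_
            · simp
            · simp [hD]; ring)
      have hef : e f ≠ 0 := fun h => by
        have hu := (IsLocalization.Away.algebraMap_isUnit (S := A') f).map e'
        rw [hee', h] at hu
        exact not_isUnit_zero hu
      let g : A' →ₐ[k] k[ε] := IsLocalization.liftAlgHom (M := Submonoid.powers f) (f := g0) (by
        rintro ⟨_, r, rfl⟩
        rw [TrivSqZeroExt.isUnit_iff_isUnit_fst]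
        simp [g0, hef])
      have hgA : ∀ x, g (algebraMap A A' x) = g0 x := fun x => IsLocalization.lift_eq _ x
      have hge : (TrivSqZeroExt.fstHom k k k).comp g = e' := by
        refine AlgHom.coe_ringHom_injective (IsLocalization.ringHom_ext (Submonoid.powers f) (RingHom.ext fun x => ?_))
        show TrivSqZeroExt.fst (g (algebraMap A A' x)) = e' (algebraMap A A' x)
        rw [hgA, hee']
        simp [g0]
      have hDa : D a = lam a := by
        show lam (a - algebraMap k A (e a)) = _
        rw [show e a = 0 from ha, map_zero, sub_zero]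
      have h1 := ht g hge a
      rw [hgA, show TrivSqZeroExt.snd (g0 a) = D a by simp [g0], hDa] at h1
      obtain ⟨⟨b, ⟨_, r, rfl⟩⟩, hb⟩ := IsLocalization.surj (Submonoid.powers f) (φ a)
      simp only at hb
      have heb : e b = 0 := by
        rw [← hee', ← hb, map_mul, he', show e a = 0 from ha, zero_mul]
      have hθa : θ (algebraMap A O a) * algebraMap A O (f ^ r) = algebraMap A O b := by
        apply eo.injective
        rw [map_mul, show eo (θ (algebraMap A O a)) = χ (algebraMap A O a) from eo.apply_symm_apply _,
          eo.commutes, eo.commutes, Localization.localRingHom_to_map,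
          IsScalarTower.algebraMap_apply A A' O', IsScalarTower.algebraMap_apply A A' O' b]
        show algebraMap A' O' (φ a) * algebraMap A' O' _ = _
        rw [← map_mul, hb]
      have hlb : lam b = 0 := hW b (by
        rw [← hθa]
        exact Ideal.mul_mem_right _ _ (Submodule.mem_sup_left (Ideal.mem_map_of_mem θ ((hmem a).mp ha))))
      have h2 := congrArg (fun z => TrivSqZeroExt.snd (g z)) hb
      simp only [map_mul, TrivSqZeroExt.snd_mul, hgA] at h2
      rw [show TrivSqZeroExt.fst (g (φ a)) = e' (φ a) from AlgHom.congr_fun hge _, he', show e a = 0 from ha,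
        zero_smul, zero_add, h1, show TrivSqZeroExt.snd (g0 b) = D b by simp [g0],
        show D b = lam b by simp [D, heb], hlb] at h2
      simp [g0, hn, hla, hef] at h2
    intro x hx
    obtain ⟨a, s, rfl⟩ := IsLocalization.exists_mk'_eq p.primeCompl x
    have ha : a ∈ p := by
      rw [hmem, ← IsLocalization.mk'_spec O a s]
      exact Ideal.mul_mem_right _ _ hx
    rw [← Ideal.mul_unit_mem_iff_mem _ (IsLocalization.map_units O s), IsLocalization.mk'_spec]
    exact hpJ a ha
  obtain ⟨hθflat, hθmax⟩ := flat_and_map_maximalIdeal θ hres hcot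
  intro h
  show χ.Flat ∧ _ = _
  have hχ : χ = (eo.toRingEquiv.toRingHom).comp θ := RingHom.ext fun x => (eo.apply_symm_apply _).symm
  refine ⟨?_, ?_⟩
  · rw [hχ]
    exact RingHom.Flat.comp hθflat (RingHom.Flat.of_bijective eo.bijective)
  · show (maximalIdeal O).map χ = maximalIdeal O'
    rw [hχ, ← Ideal.map_map, hθmax]
    exact IsLocalRing.map_maximalIdeal_of_surjective _ eo.surjective

/-- Étaleness at a rational point from flatness and unramifiedness of the local ring map. -/
theorem isEtaleAt_of_localRingHom {k A A' : Type u} [Field k] [CommRing A] [CommRing A'] [Algebra k A]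
    [Algebra k A'] [Algebra A A'] [IsScalarTower k A A'] [Algebra.FiniteType k A] [Algebra.FiniteType k A']
    (e' : A' →ₐ[k] k) (p : Ideal A) [p.IsPrime] (q : Ideal A') [q.IsPrime] (hq : RingHom.ker e' = q)
    (h : p = q.comap (algebraMap A A'))
    (hfl : (Localization.localRingHom p q (algebraMap A A') h).Flat)
    (hmax : (maximalIdeal (Localization.AtPrime p)).map (Localization.localRingHom p q (algebraMap A A') h) =
      maximalIdeal (Localization.AtPrime q)) :
    Algebra.IsEtaleAt A q := by
  haveI : IsNoetherianRing A := Algebra.FiniteType.isNoetherianRing k A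
  haveI : Algebra.FiniteType A A' := .of_restrictScalars_finiteType k A A'
  subst hq
  haveI : (RingHom.ker e').LiesOver p := ⟨h⟩
  letI : Algebra (Localization.AtPrime p) (Localization.AtPrime (RingHom.ker e')) :=
    (Localization.localRingHom p (RingHom.ker e') (algebraMap A A') h).toAlgebra
  haveI : Localization.AtPrime.IsLiesOverAlgebra p (RingHom.ker e') := ⟨rfl⟩
  rw [S9560.result A A' p (RingHom.ker e')]
  refine ⟨hfl, ?_, ?_, ?_⟩
  · have h2 : algebraMap A (Localization.AtPrime (RingHom.ker e')) =
        (Localization.localRingHom p (RingHom.ker e') (algebraMap A A') h).comp (algebraMap A (Localization.AtPrime p)) :=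
      RingHom.ext fun a => (Localization.localRingHom_to_map p (RingHom.ker e') (algebraMap A A') h a).symm
    rw [h2, ← Ideal.map_map, IsLocalization.AtPrime.map_eq_maximalIdeal, hmax]
  all_goals
    have hsur : Function.Surjective (algebraMap p.ResidueField (RingHom.ker e').ResidueField) := by
      intro z
      obtain ⟨z, rfl⟩ := residue_surjective (R := Localization.AtPrime (RingHom.ker e')) z
      obtain ⟨a, s, rfl⟩ := IsLocalization.exists_mk'_eq (RingHom.ker e').primeCompl z
      refine ⟨algebraMap A p.ResidueField (algebraMap k A (e' a / e' s)), ?_⟩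
      rw [← IsScalarTower.algebraMap_apply, IsScalarTower.algebraMap_apply A A' (RingHom.ker e').ResidueField,
        ← IsScalarTower.algebraMap_apply k A A']
      show residue (Localization.AtPrime (RingHom.ker e')) (algebraMap A' _ (algebraMap k A' _)) = residue _ _
      refine sub_eq_zero.mp ?_
      rw [← map_sub, residue_eq_zero_iff, ← Ideal.mul_unit_mem_iff_mem _ (IsLocalization.map_units _ s), sub_mul,
        IsLocalization.mk'_spec, ← map_mul, ← map_sub, IsLocalization.AtPrime.to_map_mem_maximal_iff _ (RingHom.ker e')]
      show e' _ = 0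
      rw [map_sub, map_mul, AlgHom.commutes]
      have hs : e' s ≠ 0 := fun h0 => s.2 h0
      simp [div_mul_cancel₀ _ hs]
  · exact Module.Finite.of_surjective (Algebra.linearMap p.ResidueField (RingHom.ker e').ResidueField) hsur
  · exact ⟨fun z => by
      obtain ⟨w, rfl⟩ := hsur z
      exact isSeparable_algebraMap w⟩

omit [Algebra A A'] [IsScalarTower k A A'] in
/-- Étaleness at a rational point of a map into a basic open multiplying tangent vectors by a unit. -/
theorem isEtaleAt_of_tangent (f : A) (e : A →ₐ[k] k) (e' : Localization.Away f →ₐ[k] k)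
    (hee : e'.comp (IsScalarTower.toAlgHom k A (Localization.Away f)) = e)
    (φ : A →ₐ[k] Localization.Away f) (he : e'.comp φ = e) {n : k} (hn : n ≠ 0)
    (ht : ∀ g : Localization.Away f →ₐ[k] k[ε], (TrivSqZeroExt.fstHom k k k).comp g = e' → ∀ a : A,
      TrivSqZeroExt.snd (g (φ a)) = n * TrivSqZeroExt.snd (g (algebraMap A (Localization.Away f) a))) :
    letI := φ.toRingHom.toAlgebra
    haveI : (RingHom.ker e').IsPrime := RingHom.ker_isPrime _
    Algebra.IsEtaleAt A (RingHom.ker e') := by
  haveI : (RingHom.ker e).IsPrime := RingHom.ker_isPrime _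
  haveI : (RingHom.ker e').IsPrime := RingHom.ker_isPrime _
  have h : RingHom.ker e = (RingHom.ker e').comap φ.toRingHom := Ideal.ext fun a => by
    show e a = 0 ↔ e' (φ a) = 0
    rw [show e' (φ a) = e a from AlgHom.congr_fun he a]
  obtain ⟨h1, h2⟩ := localRingHom_flat_of_tangent f e e' hee φ he hn ht h
  haveI : Algebra.FiniteType k (Localization.Away f) :=
    Algebra.FiniteType.trans (R := k) (S := A) inferInstance inferInstance
  exact @isEtaleAt_of_localRingHom k A (Localization.Away f) _ _ _ _ _ φ.toRingHom.toAlgebra
    (@IsScalarTower.of_algebraMap_eq k A (Localization.Away f) _ _ _ _ φ.toRingHom.toAlgebra _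
      fun c => (φ.commutes c).symm)
    _ _ e' _ _ _ _ rfl h h1 h2

/-- A basic localisation of an algebra of finite type is of finite type. -/
theorem finiteType_away {k A : Type u} [Field k] [CommRing A] [Algebra k A] [Algebra.FiniteType k A] (f : A) :
    Algebra.FiniteType k (Localization.Away f) :=
  Algebra.FiniteType.trans (R := k) (S := A) inferInstance inferInstance

end Groth.Agent.EndoEtaleLib
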