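import Mathlib
import Groth.Agent.EndoEtaleLib.Affine
import Groth.Agent.AVLib.Etale
import Groth.Agent.GrpSchLib.ZeroTangent
import Groth.Agent.Boot.EtAt

/-!
# The power maps of a group scheme of order prime to the characteristic are étale near the unit
-/

set_option autoImplicit false
set_option backward.isDefEq.respectTransparency false
set_option linter.style.haveILetI false

universe u

open CategoryTheory CategoryTheory.Limits MonoidalCategory CartesianMonoidalCategory MonObj AlgebraicGeometry
open scoped DualNumber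

noncomputable section

namespace Groth.Agent.EndoEtaleLib

open GrpSchLib (spO spMap)

variable {K : Type u} [Field K] (G : Over (Spec (CommRingCat.of K))) [GrpObj G]

/-- The unit point of a group scheme over a field. -/
abbrev x₀ : G.left := (MonObj.one (X := G)).left (IsLocalRing.closedPoint K)

theorem etAt_npow_unit [LocallyOfFiniteType G.hom] (n : ℕ) (hn : (n : K) ≠ 0) :
    Boot.EtAt (𝟙 G ^ n).left (x₀ G) := by
  obtain ⟨_, ⟨U : G.left.Opens, hUaff, rfl⟩, hx, -⟩ :=
    G.left.isBasis_affineOpens.exists_subset_of_mem_open (Set.mem_univ (x₀ G)) isOpen_univ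
  have hUaff : IsAffineOpen U := hUaff
  let A : Type u := Γ(G.left, U)
  let φ0 : CommRingCat.of K ⟶ Γ(G.left, U) := Spec.preimage (hUaff.fromSpec ≫ G.hom)
  letI : Algebra K A := φ0.hom.toAlgebra
  have hw : hUaff.fromSpec ≫ G.hom = Spec.map (CommRingCat.ofHom (algebraMap K A)) := by
    rw [← Spec.map_preimage (hUaff.fromSpec ≫ G.hom)]
    rfl
  let jA : spO K A ⟶ G := Over.homMk hUaff.fromSpec hw
  haveI : IsOpenImmersion jA.left := inferInstanceAs (IsOpenImmersion hUaff.fromSpec)
  haveI : Mono jA := (Over.forget _).mono_of_mono_map (show Mono jA.left from inferInstance)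
  have hupt : ∀ p, (1 : spO K K ⟶ G).left p = x₀ G := fun p => by
    show (toUnit (spO K K) ≫ MonObj.one (X := G)).left p = _
    exact congrArg (MonObj.one (X := G)).left
      (@Subsingleton.elim _ (inferInstanceAs (Subsingleton (PrimeSpectrum K))) _ _)
  have hru : Set.range (1 : spO K K ⟶ G).left ⊆ Set.range jA.left := by
    rintro _ ⟨p, rfl⟩
    show _ ∈ Set.range hUaff.fromSpec
    rw [hUaff.range_fromSpec, hupt]
    exact hx
  obtain ⟨e, he'⟩ := GrpSchLib.exists_spMap (Over.homMk (IsOpenImmersion.lift jA.left (1 : spO K K ⟶ G).left hru) (by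
    rw [show (spO K A).hom = jA.left ≫ G.hom from (Over.w jA).symm, IsOpenImmersion.lift_fac_assoc]
    exact Over.w (1 : spO K K ⟶ G)) : spO K K ⟶ spO K A)
  have he : spMap e ≫ jA = 1 := by
    rw [he']; ext1; exact IsOpenImmersion.lift_fac _ _ _
  haveI : LocallyOfFiniteType (hUaff.fromSpec ≫ G.hom) :=
    MorphismProperty.comp_mem @LocallyOfFiniteType _ _ inferInstance inferInstance
  haveI : Algebra.FiniteType K A := by
    have h : LocallyOfFiniteType (Spec.map (CommRingCat.ofHom (algebraMap K A))) := hw ▸ inferInstance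
    exact RingHom.finiteType_algebraMap.mp ((HasRingHomProperty.Spec_iff (P := @LocallyOfFiniteType)).mp h)
  set u : G ⟶ G := 𝟙 G ^ n with hu_def
  have hu1 : ∀ {R : Type u} [CommRing R] [Algebra K R], (1 : spO K R ⟶ G) ≫ u = 1 := fun {R} _ _ => by
    rw [hu_def, MonObj.comp_pow, Category.comp_id, one_pow]
  let q0 : PrimeSpectrum A := (spMap e).left (IsLocalRing.closedPoint K)
  have hq0 : jA.left q0 = x₀ G := by
    rw [← hupt (IsLocalRing.closedPoint K), ← he]
    rfl
  have hux : u.left (x₀ G) = x₀ G := by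
    conv_lhs => rw [← hupt (IsLocalRing.closedPoint K), ← Scheme.Hom.comp_apply, ← Over.comp_left, hu1]
    exact hupt _
  obtain ⟨_, ⟨f, rfl⟩, hf0, hfsub⟩ := PrimeSpectrum.isTopologicalBasis_basic_opens.exists_subset_of_mem_open
    (a := q0) (u := (jA.left ≫ u.left) ⁻¹' Set.range jA.left)
    (show (jA.left ≫ u.left) q0 ∈ Set.range jA.left by
      rw [Scheme.Hom.comp_apply, hq0, hux]
      exact ⟨q0, hq0⟩)
    (jA.left.isOpenEmbedding.isOpen_range.preimage (jA.left ≫ u.left).continuous)
  let A' := Localization.Away f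
  let α : A →ₐ[K] A' := IsScalarTower.toAlgHom K A A'
  have hef : e f ≠ 0 := fun h => hf0 (by
    show f ∈ Ideal.comap e.toRingHom _
    rw [Ideal.mem_comap, show e.toRingHom f = 0 from h]
    exact zero_mem _)
  let e' : A' →ₐ[K] K := IsLocalization.liftAlgHom (M := Submonoid.powers f) (f := e) (by
    rintro ⟨_, r, rfl⟩
    simp [isUnit_iff_ne_zero, hef])
  have hee : e'.comp α = e := AlgHom.ext fun a => IsLocalization.lift_eq _ a
  let j' : spO K A' ⟶ G := spMap α ≫ jA
  haveI : IsOpenImmersion (spMap α).left :=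
    inferInstanceAs (IsOpenImmersion (Spec.map (CommRingCat.ofHom (algebraMap A (Localization.Away f)))))
  haveI : IsOpenImmersion j'.left := by
    show IsOpenImmersion ((spMap α).left ≫ jA.left); infer_instance
  have hrange : Set.range (j' ≫ u).left ⊆ Set.range jA.left := by
    rintro _ ⟨p, rfl⟩
    have hp : (spMap α).left p ∈ (PrimeSpectrum.basicOpen f : Set (PrimeSpectrum A)) := by
      have : (spMap α).left p ∈ Set.range (PrimeSpectrum.comap (algebraMap A (Localization.Away f))) := ⟨p, rfl⟩
      rwa [PrimeSpectrum.localization_away_comap_range (Localization.Away f) f] at this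
    exact hfsub hp
  obtain ⟨φ, hφ'⟩ := GrpSchLib.exists_spMap (Over.homMk (IsOpenImmersion.lift jA.left (j' ≫ u).left hrange) (by
    rw [show (spO K A).hom = jA.left ≫ G.hom from (Over.w jA).symm, IsOpenImmersion.lift_fac_assoc]
    exact Over.w (j' ≫ u)) : spO K A' ⟶ spO K A)
  have hφ : spMap φ ≫ jA = j' ≫ u := by
    rw [hφ']; ext1; exact IsOpenImmersion.lift_fac _ _ _
  have he'j : spMap e' ≫ j' = 1 := by
    rw [← Category.assoc, ← GrpSchLib.spMap_comp, hee, he]
  have heφ : e'.comp φ = e := GrpSchLib.spMap_injective (by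
    rw [← cancel_mono jA, GrpSchLib.spMap_comp, Category.assoc, hφ, ← Category.assoc, he'j, hu1, he])
  have ht : ∀ g : A' →ₐ[K] K[ε], (TrivSqZeroExt.fstHom K K K).comp g = e' → ∀ a : A,
      TrivSqZeroExt.snd (g (φ a)) = (n : K) * TrivSqZeroExt.snd (g (algebraMap A A' a)) := by
    intro g hg a
    have hT : spMap (TrivSqZeroExt.fstHom K K K) ≫ spMap g ≫ j' = 1 := by
      rw [← Category.assoc, ← GrpSchLib.spMap_comp, hg, he'j]
    have h1 := AVLib.pow_eq_spMap_comp jA e he (spMap g ≫ j') hT n
    rw [show (spMap g ≫ j') ^ n = (spMap g ≫ j') ≫ u by rw [hu_def, MonObj.comp_pow, Category.comp_id],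
      Category.assoc, ← hφ, show j' = spMap α ≫ jA from rfl] at h1
    simp only [← Category.assoc] at h1
    rw [cancel_mono jA] at h1
    simp only [← GrpSchLib.spMap_comp] at h1
    have h2 := congrArg TrivSqZeroExt.snd (AlgHom.congr_fun (GrpSchLib.spMap_injective h1) a)
    simp [AVLib.scl] at h2
    exact h2
  have het := isEtaleAt_of_tangent f e e' hee φ heφ hn ht
  haveI : IsNoetherianRing A := Algebra.FiniteType.isNoetherianRing K A
  haveI : Algebra.FiniteType K A' := finiteType_away f
  have hfp : φ.toRingHom.FinitePresentation := by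
    refine RingHom.FinitePresentation.of_finiteType.mp (RingHom.FiniteType.of_comp_finiteType (f := algebraMap K A) ?_)
    rw [show φ.toRingHom.comp (algebraMap K A) = algebraMap K A' from φ.comp_algebraMap]
    exact RingHom.finiteType_algebraMap.mpr inferInstance
  letI : Algebra A A' := φ.toRingHom.toAlgebra
  haveI : (RingHom.ker e').IsPrime := RingHom.ker_isPrime _
  haveI : Algebra.FinitePresentation A A' := hfp
  haveI : Algebra.IsEtaleAt A (RingHom.ker e') := het
  obtain ⟨g, hg, hge⟩ := Algebra.exists_etale_of_isEtaleAt (R := A) (RingHom.ker e')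
  let q1 : PrimeSpectrum A' := ⟨RingHom.ker e', inferInstance⟩
  let jg := Spec.map (CommRingCat.ofHom (algebraMap A' (Localization.Away g)))
  obtain ⟨q2, hq2⟩ : q1 ∈ Set.range (PrimeSpectrum.comap (algebraMap A' (Localization.Away g))) := by
    rw [PrimeSpectrum.localization_away_comap_range (Localization.Away g) g]
    exact hg
  haveI : Etale (jg ≫ (j' ≫ u).left) := by
    haveI : Etale (Spec.map (CommRingCat.ofHom (algebraMap A (Localization.Away g)))) :=
      (HasRingHomProperty.Spec_iff (P := @Etale)).mpr (RingHom.etale_algebraMap.mpr hge)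
    rw [show jg ≫ (j' ≫ u).left = Spec.map (CommRingCat.ofHom (algebraMap A (Localization.Away g))) ≫ jA.left by
      rw [← hφ, Over.comp_left, ← Category.assoc]
      congr 1
      show Spec.map _ ≫ Spec.map _ = _
      rw [← Spec.map_comp, ← CommRingCat.ofHom_comp]
      rfl]
    infer_instance
  have h3 : Boot.EtAt (jg ≫ (j' ≫ u).left) q2 :=
    ⟨⊤, trivial, MorphismProperty.comp_mem @Etale _ _ inferInstance inferInstance⟩
  rw [Boot.etAt_comp_iff] at h3
  rw [Over.comp_left, Boot.etAt_comp_iff] at h3
  have h4 : j'.left (jg q2) = x₀ G := by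
    rw [show jg q2 = (spMap e').left (IsLocalRing.closedPoint K) from ?_, ← Scheme.Hom.comp_apply, ← Over.comp_left,
      he'j]
    · exact hupt _
    refine Eq.trans hq2 (PrimeSpectrum.ext ?_)
    show RingHom.ker e' = Ideal.comap e'.toRingHom (IsLocalRing.maximalIdeal K)
    rw [IsLocalRing.maximalIdeal_eq_bot, ← RingHom.ker_eq_comap_bot]
    rfl
  exact h4 ▸ h3

end Groth.Agent.EndoEtaleLib
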