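import Mathlib
import Groth.Agent.EndoEtaleLib.Group

/-!
# Translating étaleness of the power maps
-/

set_option autoImplicit false
set_option backward.isDefEq.respectTransparency false
set_option linter.style.haveILetI false

universe u

open CategoryTheory CategoryTheory.Limits MonoidalCategory CartesianMonoidalCategory MonObj AlgebraicGeometry

noncomputable section

namespace Groth.Agent.EndoEtaleLib

variable {K : Type u} [Field K] (G : Over (Spec (CommRingCat.of K))) [GrpObj G]

theorem translate_comp_inv (g : 𝟙_ (Over (Spec (CommRingCat.of K))) ⟶ G) :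
    ((toUnit G ≫ g) * 𝟙 G) ≫ ((toUnit G ≫ g⁻¹) * 𝟙 G) = 𝟙 G := by
  rw [MonObj.comp_mul, Category.comp_id, ← Category.assoc, toUnit_unique (_ ≫ toUnit G) (toUnit G),
    ← _root_.mul_assoc, ← MonObj.comp_mul, inv_mul_cancel, MonObj.comp_one, _root_.one_mul]

/-- The power map is étale at a central rational point. -/
theorem etAt_npow_central [LocallyOfFiniteType G.hom] (n : ℕ) (hn : (n : K) ≠ 0)
    (g : 𝟙_ (Over (Spec (CommRingCat.of K))) ⟶ G)
    (hg : ∀ (X : Over (Spec (CommRingCat.of K))) (x : X ⟶ G), (toUnit X ≫ g) * x = x * (toUnit X ≫ g)) :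
    Boot.EtAt (𝟙 G ^ n).left (g.left (IsLocalRing.closedPoint K)) := by
  let u := 𝟙 G ^ n
  let τ : G ⟶ G := (toUnit G ≫ g) * 𝟙 G
  let τ' : G ⟶ G := (toUnit G ≫ g ^ n) * 𝟙 G
  have hiso : ∀ c : 𝟙_ (Over (Spec (CommRingCat.of K))) ⟶ G, IsIso ((toUnit G ≫ c) * 𝟙 G).left := fun c => by
    refine ⟨((toUnit G ≫ c⁻¹) * 𝟙 G).left, ?_, ?_⟩
    · rw [← Over.comp_left, translate_comp_inv]; rfl
    · have h := translate_comp_inv G c⁻¹
      rw [inv_inv] at h
      rw [← Over.comp_left, h]; rfl
  haveI : IsIso τ.left := hiso g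
  haveI : IsIso τ'.left := hiso (g ^ n)
  have hc : τ ≫ u = u ≫ τ' := by
    rw [MonObj.comp_pow, Category.comp_id, MonObj.comp_mul, Category.comp_id, ← Category.assoc,
      toUnit_unique (u ≫ toUnit G) (toUnit G), MonObj.comp_pow]
    exact (show Commute (toUnit G ≫ g) (𝟙 G) from hg G (𝟙 G)).mul_pow n
  have hcl : τ.left ≫ u.left = u.left ≫ τ'.left := by rw [← Over.comp_left, hc, Over.comp_left]
  obtain ⟨O, hO, hE⟩ := etAt_npow_unit G n hn
  have h1 : Boot.EtAt (τ.left ≫ u.left) (x₀ G) := by
    rw [hcl]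
    refine ⟨O, hO, ?_⟩
    haveI := hE
    rw [← Category.assoc]
    exact MorphismProperty.comp_mem @Etale _ _ hE inferInstance
  rw [Boot.etAt_comp_iff] at h1
  have h2 : τ.left (x₀ G) = g.left (IsLocalRing.closedPoint K) := by
    show τ.left ((MonObj.one (X := G)).left _) = _
    rw [← Scheme.Hom.comp_apply, ← Over.comp_left]
    rw [MonObj.comp_mul, Category.comp_id, ← Category.assoc, toUnit_unique (η[G] ≫ toUnit G) (𝟙 _),
      Category.id_comp, show (η[G] : 𝟙_ _ ⟶ G) = 1 by rw [Hom.one_def, toUnit_unique (toUnit _) (𝟙 _), Category.id_comp],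
      _root_.mul_one]
  exact h2 ▸ h1

/-- The power map of a commutative group scheme over an algebraically closed field is étale. -/
theorem etale_npow_of_isAlgClosed [IsAlgClosed K] [IsCommMonObj G] [LocallyOfFiniteType G.hom] (n : ℕ)
    (hn : (n : K) ≠ 0) : Etale (𝟙 G ^ n).left := by
  haveI := LocallyOfFiniteType.jacobsonSpace G.hom
  refine Boot.etale_of_forall_etAt _ fun x => ?_
  by_contra hx
  obtain ⟨y, hy, hyc⟩ := nonempty_inter_closedPoints (X := G.left) (Z := {x | Boot.EtAt (𝟙 G ^ n).left x}ᶜ)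
    ⟨x, hx⟩ (Boot.isOpen_setOf_etAt _).isClosed_compl.isLocallyClosed
  refine hy ?_
  let g : 𝟙_ (Over (Spec (CommRingCat.of K))) ⟶ G :=
    Over.homMk _ ((pointEquivClosedPoint G.hom).symm ⟨y, hyc⟩).2
  have hgy : g.left (IsLocalRing.closedPoint K) = y :=
    congrArg Subtype.val ((pointEquivClosedPoint G.hom).apply_symm_apply ⟨y, hyc⟩)
  have := etAt_npow_central G n hn g fun X x => mul_comm _ _
  rwa [hgy] at this

/-- The power map of a commutative group scheme over a field is étale. -/
theorem etale_npow [IsCommMonObj G] [LocallyOfFiniteType G.hom] (n : ℕ) (hn : (n : K) ≠ 0) :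
    Etale (𝟙 G ^ n).left := by
  let L := AlgebraicClosure K
  let b : Spec (CommRingCat.of L) ⟶ Spec (CommRingCat.of K) := Spec.map (CommRingCat.ofHom (algebraMap K L))
  let GB := (Over.pullback b).obj G
  letI : GrpObj GB := Functor.grpObjObj
  haveI : IsCommMonObj GB := inferInstance
  haveI : LocallyOfFiniteType GB.hom := by
    show LocallyOfFiniteType (pullback.snd G.hom b); infer_instance
  have hnL : (n : L) ≠ 0 := by
    rw [← map_natCast (algebraMap K L)]
    exact fun h => hn ((algebraMap K L).injective (h.trans (map_zero _).symm))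
  have hmap : (Over.pullback b).map (𝟙 G ^ n) = 𝟙 GB ^ n := by
    refine ((Over.pullback b).homMonoidHom.map_pow (𝟙 G : G ⟶ G) n).trans ?_
    exact congrArg (· ^ n) ((Over.pullback b).map_id G)
  have hE : Etale ((Over.pullback b).map (𝟙 G ^ n)).left := hmap ▸ etale_npow_of_isAlgClosed GB n hnL
  have hb : (@Surjective ⊓ @Flat ⊓ @QuasiCompact : MorphismProperty Scheme) b := by
    refine ⟨⟨⟨fun x => ⟨IsLocalRing.closedPoint L, ?_⟩⟩, ?_⟩, inferInstance⟩
    · exact @Subsingleton.elim _ (inferInstanceAs (Subsingleton (PrimeSpectrum K))) _ _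
    · exact (HasRingHomProperty.Spec_iff (P := @Flat)).mpr (RingHom.flat_algebraMap_iff.mpr inferInstance)
  have sq : IsPullback (pullback.fst G.hom b) ((Over.pullback b).map (𝟙 G ^ n)).left (𝟙 G ^ n).left
      (pullback.fst G.hom b) := by
    refine IsPullback.of_bot ?_ ?_ (IsPullback.of_hasPullback G.hom b)
    · rw [show ((Over.pullback b).map (𝟙 G ^ n)).left ≫ pullback.snd G.hom b = pullback.snd G.hom b from
        Over.w ((Over.pullback b).map (𝟙 G ^ n)), Over.w]
      exact IsPullback.of_hasPullback G.hom b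
    · simp [Over.pullback]
  exact MorphismProperty.DescendsAlong.of_isPullback (P := @Etale) (Q := @Surjective ⊓ @Flat ⊓ @QuasiCompact)
    sq.flip (MorphismProperty.pullback_fst _ _ hb) hE

end Groth.Agent.EndoEtaleLib
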